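import Cfsg.Agent.H75.OddGeo
import Cfsg.Agent.H75.Bounds

/-!
# S5719: generation of `E Q` by the Siegel elements of two perpendiculars (helper93)

`E_le_of_perps` : if `T ⟂ T'` are nondegenerate and `H` contains all Siegel elements with vectors in `T^⊥` and all
with vectors in `T'^⊥`, then `E Q ≤ H` as soon as `(T + T')^⊥` has a hyperbolic pair;
`E_le_of_nondeg_perps` : the same with `dim V ≥ dim T + dim T' + 3` over a finite field.
-/

set_option autoImplicit false

namespace Cfsg.Agent.H93.IF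

open QuadraticMap Cfsg.Agent.LieClassical.OrthCore Cfsg.Agent.LieClassical.OrthTrans Cfsg.Agent.H75.OrthIdx

variable {F V : Type*} [Field F] [AddCommGroup V] [Module F V] {Q : QuadraticForm F V}

/-- One root group: `w = d + r` with `d ∈ T ≤ T'^⊥` and `r ∈ T^⊥`. -/
theorem sg_mem_of_perps {T T' : Submodule F V} (hT : T ⊔ perp Q T = ⊤) (hTT : T ≤ perp Q T')
    {H : Subgroup (V ≃ₗ[F] V)}
    (hH : ∀ e w, Q e = 0 → polar Q e w = 0 → e ∈ perp Q T → w ∈ perp Q T → sg Q e w ∈ H)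
    (hH' : ∀ e w, Q e = 0 → polar Q e w = 0 → e ∈ perp Q T' → w ∈ perp Q T' → sg Q e w ∈ H)
    {e : V} (he : Q e = 0) (heT : e ∈ perp Q T) (heT' : e ∈ perp Q T') {w : V} (hw : polar Q e w = 0) :
    sg Q e w ∈ H := by
  have h1 : w ∈ T ⊔ perp Q T := by rw [hT]; exact Submodule.mem_top
  obtain ⟨d, hd, r, hr, rfl⟩ := Submodule.mem_sup.1 h1
  have h2 : polar Q e d = 0 := by rw [polar_comm]; exact heT d hd
  have h3 : polar Q e r = 0 := by
    rw [polar_add_right, h2, zero_add] at hw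
    exact hw
  rw [← sg_mul h2 h3]
  exact H.mul_mem (hH' e d he h2 heT' (hTT hd)) (hH e r he h3 heT hr)

/-- **Generation.** -/
theorem E_le_of_perps (hQ : Nondeg Q) {T T' : Submodule F V} (hT : T ⊔ perp Q T = ⊤) (hTT : T ≤ perp Q T')
    {e f : V} (h : Hyp Q e f) (heT : e ∈ perp Q T) (heT' : e ∈ perp Q T') (hfT : f ∈ perp Q T) (hfT' : f ∈ perp Q T')
    {H : Subgroup (V ≃ₗ[F] V)}
    (hH : ∀ e w, Q e = 0 → polar Q e w = 0 → e ∈ perp Q T → w ∈ perp Q T → sg Q e w ∈ H)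
    (hH' : ∀ e w, Q e = 0 → polar Q e w = 0 → e ∈ perp Q T' → w ∈ perp Q T' → sg Q e w ∈ H) : E Q ≤ H :=
  E_le_of_opp hQ h (fun _ hv => sg_mem_of_perps hT hTT hH hH' h.left heT heT' hv)
    (fun _ hv => sg_mem_of_perps hT hTT hH hH' h.right hfT hfT' hv)

section fin

variable [Finite F] [FiniteDimensional F V]

omit [Finite F] in
/-- A nondegenerate subspace and its perpendicular span `V`. -/
theorem sup_perp (hQ : Nondeg Q) {T : Submodule F V} (hT : T ⊓ perp Q T = ⊥) : T ⊔ perp Q T = ⊤ := by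
  apply Submodule.eq_top_of_finrank_eq
  have h1 := Submodule.finrank_sup_add_finrank_inf_eq T (perp Q T)
  have h2 := finrank_perp_add hQ T
  rw [hT, finrank_bot] at h1
  omega

/-- A hyperbolic pair in the perpendicular of two nondegenerate subspaces `T ⟂ T'`. -/
theorem exists_hyp_two (hQ : Nondeg Q) {T T' : Submodule F V} (hT : T ⊓ perp Q T = ⊥) (hT' : T' ⊓ perp Q T' = ⊥)
    (hTT : T ≤ perp Q T') (hd : Module.finrank F T + Module.finrank F T' + 3 ≤ Module.finrank F V) :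
    ∃ e f, Hyp Q e f ∧ e ∈ perp Q T ∧ e ∈ perp Q T' ∧ f ∈ perp Q T ∧ f ∈ perp Q T' := by
  have hTT' : T' ≤ perp Q T := fun x hx t ht => by
    rw [polar_comm]
    exact hTT ht x hx
  have h0 : (T ⊔ T') ⊓ perp Q (T ⊔ T') = ⊥ := by
    rw [Submodule.eq_bot_iff]
    rintro x ⟨hx, hxp⟩
    obtain ⟨a, ha, b, hb, rfl⟩ := Submodule.mem_sup.1 hx
    have ha0 : a = 0 := by
      have h1 : a ∈ T ⊓ perp Q T := by
        refine ⟨ha, fun t ht => ?_⟩
        have h2 := hxp t (Submodule.mem_sup_left ht)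
        rw [polar_add_right, hTT' hb t ht, add_zero] at h2
        exact h2
      rw [hT] at h1
      exact (Submodule.mem_bot F).1 h1
    have hb0 : b = 0 := by
      have h1 : b ∈ T' ⊓ perp Q T' := by
        refine ⟨hb, fun t ht => ?_⟩
        have h2 := hxp t (Submodule.mem_sup_right ht)
        rw [ha0, zero_add] at h2
        exact h2
      rw [hT'] at h1
      exact (Submodule.mem_bot F).1 h1
    rw [ha0, hb0, add_zero]
  have h1 : Module.finrank F (T ⊔ T' : Submodule F V) ≤ Module.finrank F T + Module.finrank F T' := by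
    have := Submodule.finrank_sup_add_finrank_inf_eq T T'
    omega
  obtain ⟨e, f, h, he, hf⟩ := exists_hyp_perp_of_rad hQ (T ⊔ T') (by rw [h0, finrank_bot]; omega)
  rw [perp_sup] at he hf
  exact ⟨e, f, h, he.1, he.2, hf.1, hf.2⟩

/-- **Generation**, numerical form. -/
theorem E_le_of_nondeg_perps (hQ : Nondeg Q) {T T' : Submodule F V} (hT : T ⊓ perp Q T = ⊥)
    (hT' : T' ⊓ perp Q T' = ⊥) (hTT : T ≤ perp Q T')
    (hd : Module.finrank F T + Module.finrank F T' + 3 ≤ Module.finrank F V) {H : Subgroup (V ≃ₗ[F] V)}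
    (hH : ∀ e w, Q e = 0 → polar Q e w = 0 → e ∈ perp Q T → w ∈ perp Q T → sg Q e w ∈ H)
    (hH' : ∀ e w, Q e = 0 → polar Q e w = 0 → e ∈ perp Q T' → w ∈ perp Q T' → sg Q e w ∈ H) : E Q ≤ H := by
  obtain ⟨e, f, h, h1, h2, h3, h4⟩ := exists_hyp_two hQ hT hT' hTT hd
  exact E_le_of_perps hQ (sup_perp hQ hT) hTT h h1 h2 h3 h4 hH hH'

end fin

end Cfsg.Agent.H93.IF
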